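import Cfsg.Agent.H984.CC.LocA

/-!
# S4793 [LOC1]: `exists_Y` from `loc_sum`

For every `x` in a unitary group of odd dimension there is a subgroup `Y` of the centralizer with `∑_{y ∈ Y} wf q y = 0`.
-/

set_option autoImplicit false

open Cfsg

namespace Cfsg.Agent.H984.CC

open Module Cfsg.Agent.H603.CC

universe u v

section Adj

variable {F V : Type*} [Field F] [AddCommGroup V] [Module F V] {q : ℕ} {σ : F →+* F}
  {B : V →ₛₗ[σ] V →ₗ[F] F} {A : Type*} [CommRing A] [Algebra F A] [Module A V] [IsScalarTower F A V]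
  [FaithfulSMul A V]

omit [Algebra F A] [IsScalarTower F A V] in
theorem adj_unique [Finite F] (h : HS q σ B) {a b : A} (hab : ∀ u v : V, B u (a • v) = B u (b • v)) : a = b := by
  refine ext_of_smul (V := V) fun v => ?_
  refine sub_eq_zero.mp (HS_ext_right h fun u => ?_)
  rw [map_sub, hab, sub_self]

theorem exists_adj_equiv [Finite F] (h : HS q σ B) (hex : ∀ a : A, ∃ b : A, ∀ u v : V, B (a • u) v = B u (b • v)) :
    ∃ s : A ≃+* A, (∀ (a : A) (u v : V), B (a • u) v = B u (s a • v)) ∧ (∀ a, s (s a) = a) ∧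
      ∀ c : F, s (algebraMap F A c) = algebraMap F A (c ^ q) := by
  choose s hs using hex
  have hss : ∀ a, s (s a) = a := by
    intro a
    refine adj_unique (V := V) h fun u v => ?_
    rw [← hs, ← h.sy v (s a • u), ← hs, h.sy]
  refine ⟨{ toFun := s, invFun := s, left_inv := hss, right_inv := hss, map_mul' := ?_, map_add' := ?_ }, hs, hss, ?_⟩
  · intro a b
    refine adj_unique (V := V) h fun u v => ?_
    rw [← hs, mul_smul, hs, hs, smul_smul, mul_comm]
  · intro a b
    refine adj_unique (V := V) h fun u v => ?_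
    rw [← hs, add_smul, map_add, LinearMap.add_apply, hs, hs, add_smul, map_add]
  · intro c
    refine adj_unique (V := V) h fun u v => ?_
    show B u (s (algebraMap F A c) • v) = _
    rw [← hs, algebraMap_smul, algebraMap_smul, smul_left_form, map_smul, smul_eq_mul, h.sig]

end Adj

section Glue

variable {F V : Type*} [Field F] [AddCommGroup V] [Module F V] {q : ℕ} {σ : F →+* F}
  {B : V →ₛₗ[σ] V →ₗ[F] F} {W : Submodule F V}

theorem exists_glue (h : HS q σ B) [Finite F] (hc : IsCompl W (perp B W)) (e : W ≃ₗ[F] W)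
    (he : ∀ u v : W, B (e u : V) (e v : V) = B (u : V) (v : V)) :
    ∃ g : UU B, (∀ w : W, ac B g w = e w) ∧ ∀ u ∈ perp B W, ac B g u = u := by
  let P := Submodule.prodEquivOfIsCompl W (perp B W) hc
  let g : V ≃ₗ[F] V := P.symm ≪≫ₗ (e.prodCongr (LinearEquiv.refl F (perp B W))) ≪≫ₗ P
  have hg : ∀ (w : W) (u : perp B W), g ((w : V) + u) = (e w : V) + u := by
    intro w u
    show P ((e.prodCongr (LinearEquiv.refl F (perp B W))) (P.symm ((w : V) + u))) = _
    have h1 : P.symm ((w : V) + u) = (w, u) := by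
      rw [LinearEquiv.symm_apply_eq]
      rfl
    rw [h1]
    rfl
  have hd : ∀ v : V, ∃ (w : W) (u : perp B W), v = (w : V) + u := by
    intro v
    obtain ⟨⟨w, u⟩, hwu⟩ := P.surjective v
    exact ⟨w, u, hwu.symm⟩
  refine ⟨mkU g fun x y => ?_, fun w => ?_, fun u hu => ?_⟩
  · obtain ⟨w, u, rfl⟩ := hd x
    obtain ⟨w', u', rfl⟩ := hd y
    rw [hg, hg]
    have h1 : ∀ (a : W) (b : perp B W), B (a : V) (b : V) = 0 := fun a b => b.2 a a.2
    have h2 : ∀ (a : W) (b : perp B W), B (b : V) (a : V) = 0 := fun a b => h.zero_symm (h1 a b)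
    simp only [map_add, LinearMap.add_apply, h1, h2, he]
  · rw [ac_mkU]
    have h1 := hg w 0
    simpa using h1
  · rw [ac_mkU]
    have h1 := hg 0 ⟨u, hu⟩
    simpa using h1

end Glue

section YY

variable {F : Type u} {V : Type v} [Field F] [AddCommGroup V] [Module F V] {q : ℕ} {σ : F →+* F}
  (B : V →ₛₗ[σ] V →ₗ[F] F) [Finite F] [Finite V] (W : Submodule F V)
  (A : Type*) [CommRing A] [Algebra F A] [Module A W] [IsScalarTower F A W]

omit [Finite F] [Finite V] [Algebra F A] [IsScalarTower F A W] in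
theorem act_pow (y : UU B) (a : A)
    (ha : ∀ w : W, ac B y w = (a • w : W)) (n : ℕ) (w : W) : ac B (y ^ n) w = (a ^ n • w : W) := by
  induction n generalizing w with
  | zero => rw [pow_zero, pow_zero, one_smul]; rfl
  | succ n ih => rw [pow_succ, ac_mul, ha, ih, pow_succ, mul_smul]

/-- The group of unitary transformations acting as elements of `A` on `W` and trivially on the orthogonal complement. -/
def YY : Subgroup (UU B) where
  carrier := {y | (∀ u ∈ perp B W, ac B y u = u) ∧ ∃ a : A, ∀ w : W, ac B y w = (a • w : W)}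
  mul_mem' := by
    rintro y z ⟨hy, a, ha⟩ ⟨hz, b, hb⟩
    refine ⟨fun u hu => by rw [ac_mul, hz u hu, hy u hu], a * b, fun w => ?_⟩
    rw [ac_mul, hb, ha, mul_smul]
  one_mem' := ⟨fun u _ => rfl, 1, fun w => by rw [one_smul]; rfl⟩
  inv_mem' := by
    rintro y ⟨hy, a, ha⟩
    refine ⟨fun u hu => ?_, a ^ (orderOf y - 1), fun w => ?_⟩
    · have h := ac_inv_ac y u
      rwa [hy u hu] at h
    · have h1 : y⁻¹ = y ^ (orderOf y - 1) := by
        rw [inv_eq_iff_mul_eq_one, ← pow_succ', Nat.sub_add_cancel (orderOf_pos y), pow_orderOf_eq_one]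
      rw [h1, act_pow B W A y a ha]

variable {B W A}

omit [Finite F] [Algebra F A] [IsScalarTower F A W] in
theorem mem_YY {y : UU B} : y ∈ YY B W A ↔
    (∀ u ∈ perp B W, ac B y u = u) ∧ ∃ a : A, ∀ w : W, ac B y w = (a • w : W) := Iff.rfl

omit [Finite F] [Finite V] [Algebra F A] [IsScalarTower F A W] in
theorem ext_of_decomp (hc : IsCompl W (perp B W)) {g k : UU B} (h1 : ∀ w : W, ac B g w = ac B k w)
    (h2 : ∀ u ∈ perp B W, ac B g u = ac B k u) : g = k := by
  refine ac_ext fun v => ?_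
  have hv : v ∈ W ⊔ perp B W := by
    rw [hc.sup_eq_top]
    exact Submodule.mem_top
  obtain ⟨w, hw, u, hu, rfl⟩ := Submodule.mem_sup.mp hv
  rw [ac_add, ac_add, h2 u hu, h1 ⟨w, hw⟩]

omit [Finite F] in
theorem finrank_fx (hc : IsCompl W (perp B W)) {y : UU B} (hy : ∀ u ∈ perp B W, ac B y u = u)
    {a : A} (ha : ∀ w : W, ac B y w = (a • w : W)) {v : W} (hv : Function.Bijective (fun a : A => a • v)) :
    finrank F (fx y) = finrank F (LinearMap.ker (LinearMap.mulLeft F (a - 1))) + finrank F (perp B W) := by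
  let φ : A ≃ₗ[F] W := LinearEquiv.ofBijective
    { toFun := fun a : A => a • v
      map_add' := fun a b => add_smul _ _ _
      map_smul' := fun c a => by rw [RingHom.id_apply, smul_assoc] } hv
  have hφ : ∀ b : A, φ b = b • v := fun b => rfl
  let K : Submodule F A := LinearMap.ker (LinearMap.mulLeft F (a - 1))
  have hK : ∀ b : A, b ∈ K ↔ a • φ b = φ b := by
    intro b
    rw [LinearMap.mem_ker, LinearMap.mulLeft_apply, sub_mul, one_mul, sub_eq_zero, hφ, smul_smul]
    exact ⟨fun h => by rw [h], fun h => hv.1 h⟩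
  have h1 : fx y = (K.map (W.subtype ∘ₗ φ.toLinearMap)) ⊔ perp B W := by
    apply le_antisymm
    · intro x hx
      have hx' : ac B y x = x := hx
      have hxs : x ∈ W ⊔ perp B W := by
        rw [hc.sup_eq_top]
        exact Submodule.mem_top
      obtain ⟨w, hw, u, hu, rfl⟩ := Submodule.mem_sup.mp hxs
      refine Submodule.add_mem_sup ?_ hu
      obtain ⟨b, hb⟩ := φ.surjective ⟨w, hw⟩
      refine ⟨b, (hK b).mpr ?_, ?_⟩
      · rw [ac_add, hy u hu, ha ⟨w, hw⟩] at hx'
        rw [hb]
        exact Subtype.ext (add_right_cancel hx')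
      · show ((φ b : W) : V) = w
        rw [hb]
    · rw [sup_le_iff]
      refine ⟨?_, fun u hu => hy u hu⟩
      rintro _ ⟨b, hb, rfl⟩
      show ac B y ((φ b : W) : V) = ((φ b : W) : V)
      rw [ha, (hK b).mp hb]
  have h2 : (K.map (W.subtype ∘ₗ φ.toLinearMap)) ⊓ perp B W = ⊥ := by
    rw [eq_bot_iff, ← hc.inf_eq_bot]
    refine inf_le_inf_right _ ?_
    rintro _ ⟨b, hb, rfl⟩
    exact (φ b).2
  have h3 := Submodule.finrank_sup_add_finrank_inf_eq (K.map (W.subtype ∘ₗ φ.toLinearMap)) (perp B W)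
  rw [h2, finrank_bot, add_zero, ← h1] at h3
  rw [h3]
  congr 1
  exact (Submodule.equivMapOfInjective (W.subtype ∘ₗ φ.toLinearMap)
    ((Submodule.injective_subtype W).comp φ.injective) K).finrank_eq.symm

theorem sum_YY (h : HS q σ B) (hc : IsCompl W (perp B W)) [Finite A] [FaithfulSMul A W] (s : A ≃+* A)
    (hs : ∀ (a : A) (u v : W), B ((a • u : W) : V) (v : V) = B (u : V) ((s a • v : W) : V))
    {v : W} (hv : Function.Bijective (fun a : A => a • v))
    (h0 : ∑ᶠ y : {y : A // y * s y = 1},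
      (-(q : ℂ)) ^ finrank F (LinearMap.ker (LinearMap.mulLeft F ((y : A) - 1))) = 0) :
    ∑ᶠ y : YY B W A, wf q (y : UU B) = 0 := by
  have hnd : ∀ x y : W, (∀ u : W, B (u : V) (x : V) = B (u : V) (y : V)) → x = y := by
    intro x y hxy
    have h1 : ((x - y : W) : V) ∈ W ⊓ perp B W := by
      refine ⟨(x - y).2, fun u hu => ?_⟩
      rw [Submodule.coe_sub, map_sub, hxy ⟨u, hu⟩, sub_self]
    rw [hc.inf_eq_bot, Submodule.mem_bot] at h1
    exact sub_eq_zero.mp (Subtype.ext h1)
  have hmul : ∀ a : A, (∀ u v : W, B ((a • u : W) : V) ((a • v : W) : V) = B (u : V) (v : V)) ↔ a * s a = 1 := by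
    intro a
    constructor
    · intro ha
      refine ext_of_smul (V := W) fun w => hnd _ _ fun u => ?_
      rw [mul_comm, mul_smul, ← hs, ha, one_smul]
    · intro ha u v
      rw [hs, smul_smul, mul_comm, ha, one_smul]
  -- the elements attached to the norm one elements
  have hex : ∀ a : {y : A // y * s y = 1}, ∃ y : UU B, (∀ u ∈ perp B W, ac B y u = u) ∧
      ∀ w : W, ac B y w = ((a : A) • w : W) := by
    rintro ⟨a, ha⟩
    let e : W ≃ₗ[F] W :=
      { toFun := fun w => a • w
        invFun := fun w => s a • w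
        left_inv := fun w => by
          show s a • a • w = w
          rw [smul_smul, mul_comm, ha, one_smul]
        right_inv := fun w => by
          show a • s a • w = w
          rw [smul_smul, ha, one_smul]
        map_add' := fun x y => smul_add _ _ _
        map_smul' := fun c x => by
          rw [RingHom.id_apply, ← algebraMap_smul A c x, ← algebraMap_smul A c (a • x), smul_smul, smul_smul,
            mul_comm] }
    obtain ⟨g, hg1, hg2⟩ := exists_glue h hc e ((hmul a).mpr ha)
    exact ⟨g, hg2, hg1⟩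
  choose g hg1 hg2 using hex
  let G : {y : A // y * s y = 1} → YY B W A := fun a => ⟨g a, hg1 a, a, hg2 a⟩
  have hG : Function.Bijective G := by
    constructor
    · intro a b hab
      have h1 : g a = g b := congrArg Subtype.val hab
      refine Subtype.ext (ext_of_smul (V := W) fun w => Subtype.ext ?_)
      rw [← hg2, ← hg2, h1]
    · rintro ⟨y, hy, a, ha⟩
      have h1 : a * s a = 1 := by
        rw [← hmul]
        intro u v
        rw [← ha, ← ha, form_ac]
      refine ⟨⟨a, h1⟩, Subtype.ext ?_⟩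
      refine ext_of_decomp hc (fun w => ?_) fun u hu => ?_
      · show ac B (g ⟨a, h1⟩) w = ac B y w
        rw [hg2, ha]
      · show ac B (g ⟨a, h1⟩) u = ac B y u
        rw [hg1 _ u hu, hy u hu]
  have h1 : ∑ᶠ a : {y : A // y * s y = 1},
      (-(q : ℂ)) ^ finrank F (LinearMap.ker (LinearMap.mulLeft F ((a : A) - 1))) * (-(q : ℂ)) ^ finrank F (perp B W) =
      ∑ᶠ y : YY B W A, wf q (y : UU B) := by
    refine finsum_eq_of_bijective G hG fun a => ?_
    rw [← pow_add, ← finrank_fx hc (hg1 a) (hg2 a) hv]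
    rfl
  rw [← h1, ← finsum_mul' _ _ (Set.toFinite _), h0, zero_mul]

end YY

section Main

open scoped IsMulCommutative

variable {F : Type u} [Field F] [Finite F]

omit [Finite F] in
/-- The algebra generated by one endomorphism. -/
theorem exists_alg {W : Type v} [AddCommGroup W] [Module F W] [Finite W] (γ : Module.End F W) :
    ∃ (A : Type v) (_ : CommRing A) (_ : Finite A) (_ : Algebra F A) (_ : Module A W) (_ : IsScalarTower F A W)
      (_ : FaithfulSMul A W) (_ : IsPrincipalIdealRing A) (g : A), (∀ w : W, g • w = γ w) ∧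
      ∀ P : A → Prop, P g → (∀ c : F, P (algebraMap F A c)) → (∀ a b, P a → P b → P (a + b)) →
        (∀ a b, P a → P b → P (a * b)) → ∀ a, P a := by
  let A := Algebra.adjoin F ({γ} : Set (Module.End F W))
  have hfin : Finite (Module.End F W) := Finite.of_injective (fun g : Module.End F W => (g : W → W))
    (fun _ _ h => LinearMap.ext fun x => congrFun h x)
  let g : A := ⟨γ, Algebra.self_mem_adjoin_singleton F γ⟩
  have hgen : ∀ P : A → Prop, P g → (∀ c : F, P (algebraMap F A c)) → (∀ a b, P a → P b → P (a + b)) →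
        (∀ a b, P a → P b → P (a * b)) → ∀ a, P a := by
    intro P h1 h2 h3 h4
    rintro ⟨a, ha⟩
    induction ha using Algebra.adjoin_induction with
    | mem x hx =>
      have hx' : x = γ := hx
      subst hx'
      exact h1
    | algebraMap c => exact h2 c
    | add x y hx hy ihx ihy => exact h3 _ _ ihx ihy
    | mul x y hx hy ihx ihy => exact h4 _ _ ihx ihy
  refine ⟨A, inferInstance, inferInstance, inferInstance, inferInstance, inferInstance, inferInstance, ?_, g,
    fun w => rfl, hgen⟩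
  have hs : Function.Surjective (Polynomial.aeval (R := F) g) := by
    intro a
    refine hgen (fun a => ∃ p, Polynomial.aeval (R := F) g p = a) ⟨Polynomial.X, Polynomial.aeval_X _⟩
      (fun c => ⟨Polynomial.C c, Polynomial.aeval_C _ _⟩) ?_ ?_ a
    · rintro _ _ ⟨p, rfl⟩ ⟨r, rfl⟩
      exact ⟨p + r, map_add _ _ _⟩
    · rintro _ _ ⟨p, rfl⟩ ⟨r, rfl⟩
      exact ⟨p * r, map_mul _ _ _⟩
  exact IsPrincipalIdealRing.of_surjective (Polynomial.aeval (R := F) g).toRingHom hs

/-- the statement of `loc_sum` [LOC2] -/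
def LocSum (F : Type u) (A : Type v) [Field F] [CommRing A] [Algebra F A] (q : ℕ) : Prop :=
  ∀ s : A ≃+* A, (∀ a, s (s a) = a) → (∀ c : F, s (algebraMap F A c) = algebraMap F A (c ^ q)) →
    Odd (finrank F A) →
    ∑ᶠ y : {y : A // y * s y = 1}, (-(q : ℂ)) ^ finrank F (LinearMap.ker (LinearMap.mulLeft F ((y : A) - 1))) = 0

variable {V : Type v} [AddCommGroup V] [Module F V] {q : ℕ} {σ : F →+* F} {B : V →ₛₗ[σ] V →ₗ[F] F} [Finite V]

theorem exists_Y_of_locSum (h : HS q σ B) (hodd : Odd (finrank F V)) (x : UU B)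
    (hloc : ∀ (A : Type v) [CommRing A] [Finite A] [Algebra F A] [IsLocalRing A] [IsPrincipalIdealRing A],
      LocSum F A q) :
    ∃ Y : Subgroup (UU B), (∀ y ∈ Y, y * x = x * y) ∧ ∑ᶠ y : Y, wf q (y : UU B) = 0 := by
  classical
  -- minimal subspace
  have hex : ∃ n : ℕ, ∃ W : Submodule F V, finrank F W = n ∧ (∀ w ∈ W, ac B x w ∈ W) ∧
      (∀ y ∈ W, (∀ z ∈ W, B z y = 0) → y = 0) ∧ Odd n := by
    refine ⟨_, ⊤, rfl, fun _ _ => Submodule.mem_top, fun y _ hy => HS_ext_right h fun z => hy z Submodule.mem_top, ?_⟩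
    rwa [finrank_top]
  obtain ⟨W, hWn, hWx, hWnd, hWodd⟩ := Nat.find_spec hex
  have hmin : ∀ W' : Submodule F V, (∀ w ∈ W', ac B x w ∈ W') →
      (∀ y ∈ W', (∀ z ∈ W', B z y = 0) → y = 0) → Odd (finrank F W') → finrank F W ≤ finrank F W' := by
    intro W' h1 h2 h3
    rw [hWn]
    exact Nat.find_min' hex ⟨W', rfl, h1, h2, h3⟩
  rw [← hWn] at hWodd
  have hc : IsCompl W (perp B W) := isCompl_perp h W hWnd
  -- the restricted form
  let B' : W →ₛₗ[σ] W →ₗ[F] F := B.domRestrict₁₂ W W
  have hB' : ∀ u v : W, B' u v = B u v := fun u v => rfl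
  have h' : HS q σ B' :=
    { two_le := h.two_le
      card := h.card
      sig := h.sig
      symm := ⟨fun u v => h.sy _ _⟩
      sep := fun u hu => Subtype.ext (hWnd u u.2 fun z hz => h.zero_symm (hu ⟨z, hz⟩)) }
  -- the restriction of `x`
  let γ : Module.End F W := ((x : V ≃ₗ[F] V) : V →ₗ[F] V).restrict hWx
  have hγ : ∀ w : W, ((γ w : W) : V) = ac B x w := fun w => rfl
  obtain ⟨A, _, _, _, _, _, _, _, g, hg, hgen⟩ := exists_alg γ
  have hgB : ∀ u v : W, B' (g • u) (g • v) = B' u v := by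
    intro u v
    rw [hB', hB', hg, hg, hγ, hγ, form_ac]
  obtain ⟨n, hn, hgn⟩ := exists_pow_idem g
  have hgpow : ∀ (k : ℕ) (u v : W), B' (g ^ k • u) (g ^ k • v) = B' u v := by
    intro k
    induction k with
    | zero => intro u v; rw [pow_zero, one_smul, one_smul]
    | succ k ih => intro u v; rw [pow_succ', mul_smul, mul_smul, hgB, ih]
  have hg1 : g ^ n = 1 := by
    refine ext_of_smul (V := W) fun w => ?_
    rw [one_smul]
    have h1 : g ^ n • (g ^ n • w - w) = 0 := by rw [smul_sub, smul_smul, hgn, sub_self]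
    refine sub_eq_zero.mp (h'.ext fun u => ?_)
    rw [← hgpow n, h1, map_zero, LinearMap.zero_apply]
  have hgg : g * g ^ (n - 1) = 1 := by
    rw [← pow_succ', Nat.sub_add_cancel hn, hg1]
  obtain ⟨s, hs, hss, hsF⟩ := exists_adj_equiv (A := A) h' (hgen _
    ⟨g ^ (n - 1), fun u v => by rw [← hgB u (g ^ (n - 1) • v), smul_smul, hgg, one_smul]⟩
    (fun c => ⟨algebraMap F A (σ c), fun u v => by
      rw [algebraMap_smul, algebraMap_smul, smul_left_form, map_smul, smul_eq_mul]⟩)
    (fun a b ⟨a', ha⟩ ⟨b', hb⟩ => ⟨a' + b', fun u v => by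
      rw [add_smul, map_add, LinearMap.add_apply, ha, hb, add_smul, map_add]⟩)
    (fun a b ⟨a', ha⟩ ⟨b', hb⟩ => ⟨b' * a', fun u v => by
      rw [mul_smul, ha, hb, mul_smul]⟩))
  -- minimality for submodules
  have hmin' : ∀ W' : Submodule F W, (∀ (a : A), ∀ w ∈ W', a • w ∈ W') →
      (∀ x ∈ W', (∀ y ∈ W', B' y x = 0) → x = 0) → Odd (finrank F W') → W' = ⊤ := by
    intro W' h1 h2 h3
    have hfr : finrank F (W'.map W.subtype) = finrank F W' :=
      (Submodule.equivMapOfInjective W.subtype (Submodule.injective_subtype W) W').finrank_eq.symm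
    refine Submodule.eq_top_of_finrank_eq (le_antisymm (Submodule.finrank_le _) ?_)
    rw [← hfr]
    refine hmin _ ?_ ?_ (by rwa [hfr])
    · rintro _ ⟨w, hw, rfl⟩
      refine ⟨g • w, h1 g w hw, ?_⟩
      rw [hg]
      rfl
    · rintro _ ⟨w, hw, rfl⟩ hz
      have h4 : w = 0 := h2 w hw fun y hy => hz _ ⟨y, hy, rfl⟩
      rw [h4, map_zero]
  have hlocal : IsLocalRing A := core_local h' hWodd s hs hmin'
  obtain ⟨v, hv⟩ := core_cyclic h' hWodd s hs hmin'
  let φ : A ≃ₗ[F] W := LinearEquiv.ofBijective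
    { toFun := fun a : A => a • v
      map_add' := fun a b => add_smul _ _ _
      map_smul' := fun c a => by rw [RingHom.id_apply, smul_assoc] } hv
  have hAodd : Odd (finrank F A) := by
    rw [φ.finrank_eq]
    exact hWodd
  have h0 := hloc A s hss hsF hAodd
  refine ⟨YY B W A, ?_, sum_YY h hc s hs hv h0⟩
  rintro y ⟨hy, a, ha⟩
  refine ext_of_decomp hc (fun w => ?_) fun u hu => ?_
  · rw [ac_mul, ac_mul, ← hγ, ha, ha, ← hγ, ← hg, ← hg, smul_smul, smul_smul, mul_comm]
  · have hxu : ac B x u ∈ perp B W := by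
      intro w hw
      have hsur : ∃ w' : W, ac B x w' = w := by
        have h1 : Function.Surjective γ := by
          rw [← Finite.injective_iff_surjective]
          intro p r hpr
          have h2 : ac B x p = ac B x r := by rw [← hγ, ← hγ, hpr]
          exact Subtype.ext ((x : V ≃ₗ[F] V).injective h2)
        obtain ⟨w', hw'⟩ := h1 ⟨w, hw⟩
        exact ⟨w', by rw [← hγ, hw']⟩
      obtain ⟨w', rfl⟩ := hsur
      rw [form_ac]
      exact hu w' w'.2
    rw [ac_mul, ac_mul, hy u hu, hy _ hxu]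

end Main

end Cfsg.Agent.H984.CC
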