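import Cfsg.Agent.H603.CC.Defs

/-!
# S4793 [LOC1], part A: the cyclic vector

`A` a finite commutative principal ideal ring acting faithfully on a hermitian space `V` of odd dimension with an adjoint involution `s`;
if `V` has no proper nondegenerate `A`-submodule of odd dimension then `A` is local and `V` is free of rank one.
-/

set_option autoImplicit false

open Cfsg

namespace Cfsg.Agent.H984.CC

open Module Cfsg.Agent.H603.CC

section Ring

/-- In a finite monoid some positive power of every element is idempotent. -/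
theorem exists_pow_idem {A : Type*} [Monoid A] [Finite A] (a : A) : ∃ n : ℕ, 0 < n ∧ a ^ n * a ^ n = a ^ n := by
  obtain ⟨i, j, hij, h⟩ := Finite.exists_ne_map_eq_of_infinite (fun n : ℕ => a ^ n)
  wlog hlt : i < j generalizing i j
  · exact this j i hij.symm h.symm (lt_of_le_of_ne (not_lt.mp hlt) hij.symm)
  have hij' : a ^ i = a ^ j := h
  obtain ⟨d, hd⟩ : ∃ d, j = i + d := ⟨j - i, by omega⟩
  have hd0 : 0 < d := by omega
  -- `a ^ (i + k d) = a ^ i`
  have h1 : ∀ k : ℕ, a ^ (i + k * d) = a ^ i := by
    intro k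
    induction k with
    | zero => rw [zero_mul, add_zero]
    | succ k ih =>
      have : i + (k + 1) * d = (i + d) + k * d := by ring
      rw [this, pow_add, ← hd, ← hij', ← pow_add, ih]
  have h2 : ∀ m, i ≤ m → ∀ k : ℕ, a ^ (m + k * d) = a ^ m := by
    intro m hm k
    obtain ⟨l, rfl⟩ : ∃ l, m = l + i := ⟨m - i, by omega⟩
    rw [add_assoc, pow_add, h1, ← pow_add]
  refine ⟨(i + 1) * d, Nat.mul_pos (Nat.succ_pos _) hd0, ?_⟩
  rw [← pow_add]
  refine h2 _ ?_ _
  calc i ≤ i + 1 := Nat.le_succ _
    _ = (i + 1) * 1 := (mul_one _).symm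
    _ ≤ (i + 1) * d := Nat.mul_le_mul_left _ hd0

/-- A finite commutative ring with trivial idempotents only is local. -/
theorem isLocalRing_of_idem {A : Type*} [CommRing A] [Finite A] [Nontrivial A]
    (h : ∀ e : A, e * e = e → e = 0 ∨ e = 1) : IsLocalRing A := by
  refine IsLocalRing.of_isUnit_or_isUnit_one_sub_self fun a => ?_
  obtain ⟨n, hn, h1⟩ := exists_pow_idem a
  rcases h _ h1 with h0 | h0
  · right
    exact IsNilpotent.isUnit_one_sub ⟨n, h0⟩
  · left
    exact IsUnit.of_pow_eq_one h0 hn.ne'

/-- A finite local principal ideal ring has an element `c ≠ 0` contained in every nonzero ideal. -/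
theorem exists_socle {A : Type*} [CommRing A] [Finite A] [IsLocalRing A] [IsPrincipalIdealRing A] :
    ∃ c : A, c ≠ 0 ∧ ∀ I : Ideal A, I ≠ ⊥ → c ∈ I := by
  classical
  obtain ⟨p, hp⟩ := (IsPrincipalIdealRing.principal (IsLocalRing.maximalIdeal A)).principal
  have hp1 : ∀ a : A, ¬ IsUnit a → ∃ b, a = p * b := by
    intro a ha
    have h1 : a ∈ IsLocalRing.maximalIdeal A := ha
    rw [hp] at h1
    exact Ideal.mem_span_singleton.mp h1
  have hp2 : ¬ IsUnit p := by
    have h1 : p ∈ IsLocalRing.maximalIdeal A := by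
      rw [hp]
      exact Submodule.mem_span_singleton_self p
    exact h1
  -- `p` is nilpotent
  have hnil : ∃ n, p ^ n = 0 := by
    obtain ⟨n, hn, h1⟩ := exists_pow_idem p
    refine ⟨n, ?_⟩
    have h2 : p ^ n * (1 - p ^ n) = 0 := by rw [mul_sub, mul_one, h1, sub_self]
    have h3 : IsUnit (1 - p ^ n) := by
      rcases IsLocalRing.isUnit_or_isUnit_one_sub_self (p ^ n) with h | h
      · exact absurd (isUnit_pow_iff hn.ne' |>.mp h) hp2
      · exact h
    exact (IsUnit.mul_left_eq_zero h3).mp h2
  let N := Nat.find hnil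
  have hN : p ^ N = 0 := Nat.find_spec hnil
  have hN' : ∀ m, m < N → p ^ m ≠ 0 := fun m hm => Nat.find_min hnil hm
  have hN0 : 0 < N := by
    rcases Nat.eq_zero_or_pos N with h | h
    · rw [h, pow_zero] at hN
      exact absurd hN one_ne_zero
    · exact h
  refine ⟨p ^ (N - 1), hN' _ (by omega), fun I hI => ?_⟩
  obtain ⟨a, haI, ha0⟩ := Submodule.exists_mem_ne_zero_of_ne_bot hI
  -- write `a = p ^ k * u`
  have key : ∀ k : ℕ, (∃ b, a = p ^ k * b) ∨ ∃ j, j < k ∧ ∃ u, IsUnit u ∧ a = p ^ j * u := by
    intro k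
    induction k with
    | zero => exact Or.inl ⟨a, by rw [pow_zero, one_mul]⟩
    | succ k ih =>
      rcases ih with ⟨b, hb⟩ | ⟨j, hj, u, hu, h⟩
      · by_cases hb1 : IsUnit b
        · exact Or.inr ⟨k, Nat.lt_succ_self k, b, hb1, hb⟩
        · obtain ⟨c, hc⟩ := hp1 b hb1
          exact Or.inl ⟨c, by rw [hb, hc, pow_succ, mul_assoc]⟩
      · exact Or.inr ⟨j, Nat.lt_succ_of_lt hj, u, hu, h⟩
  rcases key N with ⟨b, hb⟩ | ⟨j, hj, u, hu, h⟩
  · rw [hN, zero_mul] at hb
    exact absurd hb ha0
  · obtain ⟨w, hw⟩ := hu.exists_right_inv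
    have h1 : p ^ (N - 1) = (p ^ (N - 1 - j) * w) * a := by
      rw [h]
      have h2 : p ^ (N - 1 - j) * w * (p ^ j * u) = p ^ (N - 1 - j) * p ^ j * (u * w) := by ring
      rw [h2, hw, mul_one, ← pow_add]
      congr 1
      omega
    rw [h1]
    exact I.mul_mem_left _ haI

end Ring

section Core

variable {F V : Type*} [Field F] [AddCommGroup V] [Module F V] {q : ℕ} {σ : F →+* F}
  {B : V →ₛₗ[σ] V →ₗ[F] F}

theorem smul_left_form (c : F) (u v : V) : B (c • u) v = σ c * B u v := by
  rw [LinearMap.map_smulₛₗ₂, smul_eq_mul]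

theorem HS_ext_right [Finite F] (h : HS q σ B) {x : V} (hx : ∀ y, B y x = 0) : x = 0 :=
  h.ext fun y => h.zero_symm (hx y)

/-- nondegenerate subspaces: decomposition -/
theorem isCompl_perp [Finite F] [Finite V] (h : HS q σ B) (W : Submodule F V)
    (hW : ∀ x ∈ W, (∀ y ∈ W, B y x = 0) → x = 0) : IsCompl W (perp B W) := by
  rw [isCompl_iff, disjoint_iff_inf_le, codisjoint_iff_le_sup]
  refine ⟨fun x hx => ?_, fun v _ => ?_⟩
  · rw [Submodule.mem_bot]
    exact hW x hx.1 fun y hy => hx.2 y hy
  · obtain ⟨x, hx, hx'⟩ := Cfsg.Agent.ClassicalGeometry.HermWitt.exists_perp σ B W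
      (fun x hx hxy => hW x hx fun y hy => h.zero_symm (hxy y hy)) v
    have h1 : v = x + (v - x) := by abel
    rw [h1]
    exact Submodule.add_mem_sup hx fun w hw => h.zero_symm (hx' w hw)

theorem perp_nondeg [Finite F] [Finite V] (h : HS q σ B) (W : Submodule F V)
    (hW : ∀ x ∈ W, (∀ y ∈ W, B y x = 0) → x = 0) :
    ∀ x ∈ perp B W, (∀ y ∈ perp B W, B y x = 0) → x = 0 := by
  intro x hx hxy
  refine HS_ext_right h fun v => ?_
  have hv : v ∈ W ⊔ perp B W := by
    rw [(isCompl_perp h W hW).sup_eq_top]
    exact Submodule.mem_top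
  obtain ⟨w, hw, u, hu, rfl⟩ := Submodule.mem_sup.mp hv
  rw [map_add, LinearMap.add_apply, hx w hw, hxy u hu, add_zero]

theorem finrank_add_perp [Finite F] [Finite V] (h : HS q σ B) (W : Submodule F V)
    (hW : ∀ x ∈ W, (∀ y ∈ W, B y x = 0) → x = 0) :
    finrank F W + finrank F (perp B W) = finrank F V :=
  Submodule.finrank_add_eq_of_isCompl (isCompl_perp h W hW)

/-- totally singular submodules have dimension at most one half -/
theorem two_mul_finrank_le [Finite F] [Finite V] (h : HS q σ B) (E : Submodule F V)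
    (hE : ∀ x ∈ E, ∀ y ∈ E, B x y = 0) : 2 * finrank F E ≤ finrank F V := by
  have : FiniteDimensional F V := inferInstance
  -- `V → Dual E` is surjective (semilinear); count
  have hsurj : Function.Surjective (fun w : V => ((B w).domRestrict E : Dual F E)) := by
    intro ℓ
    obtain ⟨w, hw⟩ := Cfsg.Agent.ClassicalGeometry.HermWitt.exists_represent σ B h.sep E.subtype
      (Submodule.injective_subtype E) ℓ
    exact ⟨w, LinearMap.ext hw⟩
  -- `E` lies in the kernel
  have hq : 1 < Nat.card F := by
    rw [h.card]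
    exact Nat.one_lt_pow (by norm_num) h.two_le
  let ψ : V →+ Dual F E := 
    { toFun := fun w => (B w).domRestrict E
      map_zero' := by
        ext x
        show B 0 (x : V) = 0
        rw [map_zero, LinearMap.zero_apply]
      map_add' := fun a b => by
        ext x
        show B (a + b) (x : V) = B a x + B b x
        rw [map_add, LinearMap.add_apply] }
  have h1 : Nat.card (V ⧸ ψ.ker) = Nat.card (Dual F E) :=
    Nat.card_congr (QuotientAddGroup.quotientKerEquivOfSurjective ψ hsurj).toEquiv
  have h2 : Nat.card V = Nat.card (V ⧸ ψ.ker) * Nat.card ψ.ker :=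
    AddSubgroup.card_eq_card_quotient_mul_card_addSubgroup _
  have h3 : Nat.card E ≤ Nat.card ψ.ker := by
    have hle : E.toAddSubgroup ≤ ψ.ker := by
      intro x hx
      rw [AddMonoidHom.mem_ker]
      ext y
      exact hE x hx y y.2
    exact Nat.card_le_card_of_injective (fun x : E => (⟨x, hle x.2⟩ : ψ.ker))
      (fun a b hab => Subtype.ext (congrArg (fun z : ψ.ker => (z : V)) hab))
  have h4 : Nat.card (Dual F E) = Nat.card E :=
    Nat.card_congr ((Module.finBasis F E).toDualEquiv).toEquiv.symm
  have h5 : Nat.card E * Nat.card E ≤ Nat.card V := by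
    rw [h2, h1, h4]
    exact Nat.mul_le_mul_left _ h3
  rw [Module.natCard_eq_pow_finrank (K := F) (V := E), Module.natCard_eq_pow_finrank (K := F) (V := V),
    ← pow_add] at h5
  have h6 := (Nat.pow_le_pow_iff_right hq).mp h5
  omega

variable {A : Type*} [CommRing A] [Finite A] [Algebra F A] [Module A V] [IsScalarTower F A V]
  [FaithfulSMul A V]

omit [Finite A] in
theorem ext_of_smul {a b : A} (hab : ∀ v : V, a • v = b • v) : a = b := FaithfulSMul.eq_of_smul_eq_smul hab

/-- the submodule `a V` -/
def img (F : Type*) (V : Type*) [Field F] [AddCommGroup V] [Module F V] {A : Type*} [CommRing A] [Algebra F A]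
    [Module A V] [IsScalarTower F A V] (a : A) : Submodule F V where
  carrier := {v | ∃ u : V, a • u = v}
  add_mem' := by
    rintro _ _ ⟨u, rfl⟩ ⟨v, rfl⟩
    exact ⟨u + v, smul_add _ _ _⟩
  zero_mem' := ⟨0, smul_zero _⟩
  smul_mem' := by
    rintro c _ ⟨u, rfl⟩
    exact ⟨c • u, by
      rw [← algebraMap_smul A c u, ← algebraMap_smul A c (a • u), smul_smul, smul_smul, mul_comm]⟩

omit [Finite A] in
/-- a self-adjoint idempotent is trivial -/
theorem selfadjoint_idem [Finite F] [Finite V] (h : HS q σ B) (hodd : Odd (finrank F V)) (s : A ≃+* A)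
    (hs : ∀ (a : A) (u v : V), B (a • u) v = B u (s a • v))
    (hmin : ∀ W : Submodule F V, (∀ (a : A), ∀ w ∈ W, a • w ∈ W) → (∀ x ∈ W, (∀ y ∈ W, B y x = 0) → x = 0) →
      Odd (finrank F W) → W = ⊤)
    (f : A) (hf : f * f = f) (hsf : s f = f) : f = 0 ∨ f = 1 := by
  -- general facts for a self-adjoint idempotent
  have gen : ∀ f : A, f * f = f → s f = f →
      (∀ (a : A), ∀ w ∈ img F V f, a • w ∈ img F V f) ∧
      (∀ x ∈ img F V f, (∀ y ∈ img F V f, B y x = 0) → x = 0) ∧
      perp B (img F V f) = img F V (1 - f) ∧ (img F V f = ⊤ → f = 1) := by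
    intro f hf hsf
    refine ⟨?_, ?_, ?_, ?_⟩
    · rintro a _ ⟨u, rfl⟩
      exact ⟨a • u, by rw [smul_smul, smul_smul, mul_comm]⟩
    · rintro _ ⟨u, rfl⟩ hy
      refine HS_ext_right h fun v => ?_
      have h1 := hy (f • v) ⟨v, rfl⟩
      rwa [hs, hsf, smul_smul, hf] at h1
    · ext v
      constructor
      · intro hv
        have h1 : f • v = 0 := by
          refine HS_ext_right h fun u => ?_
          have h2 := hv (f • u) ⟨u, rfl⟩
          rwa [hs, hsf] at h2
        exact ⟨v, by rw [sub_smul, one_smul, h1, sub_zero]⟩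
      · rintro ⟨u, rfl⟩ _ ⟨w, rfl⟩
        rw [hs, hsf, smul_smul, mul_sub, mul_one, hf, sub_self, zero_smul, map_zero]
    · intro ht
      refine ext_of_smul (V := V) fun v => ?_
      have h1 : v ∈ img F V f := by rw [ht]; exact Submodule.mem_top
      obtain ⟨u, rfl⟩ := h1
      rw [smul_smul, hf, one_smul]
  obtain ⟨g1, g2, g3, g4⟩ := gen f hf hsf
  have hf' : (1 - f) * (1 - f) = 1 - f := by
    have : (1 - f) * (1 - f) = 1 - f - f + f * f := by ring
    rw [this, hf]
    ring
  have hsf' : s (1 - f) = 1 - f := by rw [map_sub, map_one, hsf]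
  obtain ⟨k1, k2, k3, k4⟩ := gen (1 - f) hf' hsf'
  have hdim := finrank_add_perp h _ g2
  rw [g3] at hdim
  rw [← hdim] at hodd
  rcases Nat.even_or_odd (finrank F (img F V f)) with he | ho
  · left
    have ho' : Odd (finrank F (img F V (1 - f))) := by
      by_contra hno
      rw [Nat.not_odd_iff_even] at hno
      exact (Nat.not_odd_iff_even.mpr (he.add hno)) hodd
    have h1 := k4 (hmin _ k1 k2 ho')
    linear_combination -h1
  · right
    exact g4 (hmin _ g1 g2 ho)

theorem core_local [Finite F] [Finite V] (h : HS q σ B) (hodd : Odd (finrank F V)) (s : A ≃+* A)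
    (hs : ∀ (a : A) (u v : V), B (a • u) v = B u (s a • v))
    (hmin : ∀ W : Submodule F V, (∀ (a : A), ∀ w ∈ W, a • w ∈ W) → (∀ x ∈ W, (∀ y ∈ W, B y x = 0) → x = 0) →
      Odd (finrank F W) → W = ⊤) : IsLocalRing A := by
  have hV : Nontrivial V := by
    by_contra hn
    rw [not_nontrivial_iff_subsingleton] at hn
    rw [finrank_zero_of_subsingleton] at hodd
    exact absurd hodd (by decide)
  have hA : Nontrivial A := by
    refine ⟨0, 1, fun h01 => ?_⟩
    obtain ⟨v, hv⟩ := exists_ne (0 : V)
    exact hv (by rw [← one_smul A v, ← h01, zero_smul])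
  have hss : ∀ a, s (s a) = a := by
    intro a
    refine ext_of_smul (V := V) fun v => ?_
    have h1 : s (s a) • v - a • v = 0 := by
      refine HS_ext_right h fun u => ?_
      rw [map_sub, ← hs, ← h.sy v (s a • u), ← hs, h.sy, sub_self]
    exact sub_eq_zero.mp h1
  refine isLocalRing_of_idem fun e he => ?_
  have hse : s e * s e = s e := by rw [← map_mul, he]
  have h1 : (e * s e) * (e * s e) = e * s e := by
    have : (e * s e) * (e * s e) = (e * e) * (s e * s e) := by ring
    rw [this, he, hse]
  have h2 : s (e * s e) = e * s e := by rw [map_mul, hss, mul_comm]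
  rcases selfadjoint_idem h hodd s hs hmin _ h1 h2 with h0 | h0
  · -- `e * s e = 0`
    have h3 : (e + s e) * (e + s e) = e + s e := by
      have : (e + s e) * (e + s e) = e * e + s e * s e + 2 * (e * s e) := by ring
      rw [this, he, hse, h0]
      ring
    have h4 : s (e + s e) = e + s e := by rw [map_add, hss, add_comm]
    rcases selfadjoint_idem h hodd s hs hmin _ h3 h4 with h5 | h5
    · left
      calc e = e * (e + s e) := by rw [mul_add, he, h0, add_zero]
        _ = 0 := by rw [h5, mul_zero]
    · -- swapped idempotents: even dimension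
      exfalso
      have ts : ∀ e : A, e * s e = 0 → ∀ x ∈ img F V e, ∀ y ∈ img F V e, B x y = 0 := by
        rintro e h0 _ ⟨u, rfl⟩ _ ⟨v, rfl⟩
        rw [hs, smul_smul, mul_comm, h0, zero_smul, map_zero]
      have d1 := two_mul_finrank_le h _ (ts e h0)
      have d2 := two_mul_finrank_le h _ (ts (s e) (by rw [hss, mul_comm, h0]))
      have hc : IsCompl (img F V e) (img F V (s e)) := by
        rw [isCompl_iff, disjoint_iff_inf_le, codisjoint_iff_le_sup]
        refine ⟨?_, fun v _ => ?_⟩
        · rintro _ ⟨⟨u, rfl⟩, ⟨w, hw⟩⟩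
          rw [Submodule.mem_bot]
          have h6 : e • u = e • (e • u) := by rw [smul_smul, he]
          rw [h6, ← hw, smul_smul, h0, zero_smul]
        · have h6 : v = e • v + s e • v := by rw [← add_smul, h5, one_smul]
          rw [h6]
          exact Submodule.add_mem_sup ⟨v, rfl⟩ ⟨v, rfl⟩
      have d3 := Submodule.finrank_add_eq_of_isCompl hc
      obtain ⟨k, hk⟩ := hodd
      omega
  · right
    calc e = e * (e * s e) := by rw [h0, mul_one]
      _ = (e * e) * s e := by ring
      _ = 1 := by rw [he, h0]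

theorem core_cyclic [Finite F] [Finite V] [IsPrincipalIdealRing A] [IsLocalRing A] (h : HS q σ B)
    (hodd : Odd (finrank F V)) (s : A ≃+* A)
    (hs : ∀ (a : A) (u v : V), B (a • u) v = B u (s a • v))
    (hmin : ∀ W : Submodule F V, (∀ (a : A), ∀ w ∈ W, a • w ∈ W) → (∀ x ∈ W, (∀ y ∈ W, B y x = 0) → x = 0) →
      Odd (finrank F W) → W = ⊤) : ∃ v : V, Function.Bijective (fun a : A => a • v) := by
  obtain ⟨c, hc0, hc⟩ := exists_socle (A := A)
  obtain ⟨v, hv⟩ : ∃ v : V, B v (c • v) ≠ 0 := by
    by_contra hno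
    push Not at hno
    have key : ∀ u v : V, B u (c • v) + B v (c • u) = 0 := by
      intro u v
      have h1 := hno (u + v)
      rw [smul_add, map_add, map_add, LinearMap.add_apply, LinearMap.add_apply, hno u, hno v] at h1
      linear_combination h1
    obtain ⟨a, ha⟩ : ∃ a : F, σ a ≠ a := by
      by_contra hh
      push Not at hh
      exact h.ne_id (RingHom.ext hh)
    apply hc0
    refine ext_of_smul (V := V) fun v => ?_
    rw [zero_smul]
    refine HS_ext_right h fun u => ?_
    have h1 := key (a • u) v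
    have h2 : c • a • u = a • c • u := by
      rw [← algebraMap_smul A a u, ← algebraMap_smul A a (c • u), smul_smul, smul_smul, mul_comm]
    rw [h2, smul_left_form, (B v).map_smul, smul_eq_mul] at h1
    have h3 := key u v
    have h4 : (σ a - a) * B u (c • v) = 0 := by linear_combination h1 - a * h3
    exact (mul_eq_zero.mp h4).resolve_left (sub_ne_zero.mpr ha)
  -- the submodule `A v`
  let W : Submodule F V :=
    { carrier := {w | ∃ a : A, a • v = w}
      add_mem' := by
        rintro _ _ ⟨a, rfl⟩ ⟨b, rfl⟩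
        exact ⟨a + b, add_smul _ _ _⟩
      zero_mem' := ⟨0, zero_smul _ _⟩
      smul_mem' := by
        rintro k _ ⟨a, rfl⟩
        exact ⟨algebraMap F A k * a, by rw [mul_smul, algebraMap_smul]⟩ }
  have hWinv : ∀ (a : A), ∀ w ∈ W, a • w ∈ W := by
    rintro a _ ⟨b, rfl⟩
    exact ⟨a * b, mul_smul _ _ _⟩
  have hWnd : ∀ x ∈ W, (∀ y ∈ W, B y x = 0) → x = 0 := by
    rintro _ ⟨a, rfl⟩ hy
    let J : Ideal A :=
      { carrier := {a | ∀ b : A, B v ((b * a) • v) = 0}
        add_mem' := by
          intro a b ha hb d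
          rw [mul_add, add_smul, map_add, ha, hb, add_zero]
        zero_mem' := fun d => by rw [mul_zero, zero_smul, map_zero]
        smul_mem' := by
          intro d a ha e
          rw [smul_eq_mul, ← mul_assoc]
          exact ha _ }
    have hJ : J = ⊥ := by
      by_contra hne
      have h1 := hc J hne 1
      rw [one_mul] at h1
      exact hv h1
    have haJ : a ∈ J := by
      intro b
      have h1 := hy (s.symm b • v) ⟨_, rfl⟩
      rwa [hs, s.apply_symm_apply, smul_smul] at h1
    rw [hJ, Submodule.mem_bot] at haJ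
    rw [haJ, zero_smul]
  have hinj : Function.Injective (fun a : A => a • v) := by
    intro a b hab
    have hab' : a • v = b • v := hab
    let J : Ideal A :=
      { carrier := {a | a • v = 0}
        add_mem' := by
          intro a b ha hb
          show (a + b) • v = 0
          rw [add_smul, ha, hb, add_zero]
        zero_mem' := zero_smul _ _
        smul_mem' := by
          intro d a ha
          show (d * a) • v = 0
          rw [mul_smul, ha, smul_zero] }
    have hJ : J = ⊥ := by
      by_contra hne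
      have h1 : c • v = 0 := hc J hne
      rw [h1, map_zero] at hv
      exact hv rfl
    have h1 : a - b ∈ J := by
      show (a - b) • v = 0
      rw [sub_smul, hab', sub_self]
    rw [hJ, Submodule.mem_bot] at h1
    exact sub_eq_zero.mp h1
  have hvW : v ∈ W := ⟨1, one_smul _ _⟩
  have hdim := finrank_add_perp h W hWnd
  have hWtop : W = ⊤ := by
    rcases Nat.even_or_odd (finrank F W) with he | ho
    · exfalso
      have ho' : Odd (finrank F (perp B W)) := by
        by_contra hno
        rw [Nat.not_odd_iff_even] at hno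
        rw [← hdim] at hodd
        exact (Nat.not_odd_iff_even.mpr (he.add hno)) hodd
      have h1 : perp B W = ⊤ := by
        refine hmin _ (fun a w hw u hu => ?_) (perp_nondeg h W hWnd) ho'
        have h2 := hw (s.symm a • u) (hWinv _ u hu)
        rwa [hs, s.apply_symm_apply] at h2
      have h2 : v = 0 := by
        refine hWnd v hvW fun y hy => ?_
        have h3 : v ∈ perp B W := by rw [h1]; exact Submodule.mem_top
        exact h3 y hy
      rw [h2, smul_zero, map_zero] at hv
      exact hv rfl
    · exact hmin W hWinv hWnd ho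
  refine ⟨v, hinj, fun w => ?_⟩
  have : w ∈ W := by rw [hWtop]; exact Submodule.mem_top
  exact this

end Core

end Cfsg.Agent.H984.CC
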